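import Cfsg.Agent.Lib.Helper27.TS2.Defs

/-!
# Project TS4 (S5666, NT world, `4 ≤ a`): definitions

On top of `Helper21.TS` (`Defs`, `Basic`, `XA`), `Helper1.TSNTDefs` (`HA`, `LamF`, `NtsA`, `StabA`) and
`Helper27.TS2.Defs` (`UfpA J1 J2 M`: `v x_u(c) v⁻¹ ∈ T0 ⇒ v ∈ T0`).
`L_u = {ten u y}`, `S = g L_{u₀} = {g *ᵥ ten u₀ y}`; "`v ⊥ L_u`" is written `∀ y', bf (JV J1 J2) v (ten u y') = 0`.
See `PLAN.md` and `Skel.lean.txt` in this folder.
-/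

set_option autoImplicit false
set_option linter.unusedSectionVars false

namespace Cfsg.Agent.Lib.Helper21.TS

open Matrix
open scoped Kronecker
open Cfsg.Agent.Lib.helper7.TP

variable {a b : ℕ} {F : Type*} [Field F]

/-- the `A`-root element `x_u(c) = t_u(c) ⊗ 1 = X_u(c • 1)`, in `GL`. -/
noncomputable def xA {J1 : Matrix (Fin a) (Fin a) F} {J2 : Matrix (Fin b) (Fin b) F} (C : Ctx J1 J2)
    (u : Fin a → F) (c : F) : Matrix.GeneralLinearGroup (Fin a × Fin b) F :=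
  XAG J1 u (bf_self_alt C.alt C.two u) (c • (1 : Matrix (Fin b) (Fin b) F))

@[simp] theorem xA_coe {J1 : Matrix (Fin a) (Fin a) F} {J2 : Matrix (Fin b) (Fin b) F} (C : Ctx J1 J2)
    (u : Fin a → F) (c : F) :
    ((xA C u c : Matrix.GeneralLinearGroup (Fin a × Fin b) F) :
      Matrix (Fin a × Fin b) (Fin a × Fin b) F) =
      XAm J1 u (c • (1 : Matrix (Fin b) (Fin b) F)) := rfl

/-- `MEET` at `u` with witness `u'`, for `S = g L_{u₀}`: `S ∩ L_u^⊥ ⊆ L_{u'} ⊆ L_u + S`. -/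
def MeetAt (J1 : Matrix (Fin a) (Fin a) F) (J2 : Matrix (Fin b) (Fin b) F)
    (g : Matrix.GeneralLinearGroup (Fin a × Fin b) F) (u₀ u u' : Fin a → F) : Prop :=
  (∀ y : Fin b → F,
    (∀ y' : Fin b → F, bf (JV J1 J2)
      ((g : Matrix (Fin a × Fin b) (Fin a × Fin b) F) *ᵥ ten u₀ y) (ten u y') = 0) →
    ∃ y'' : Fin b → F,
      (g : Matrix (Fin a × Fin b) (Fin a × Fin b) F) *ᵥ ten u₀ y = ten u' y'') ∧
  (∀ y : Fin b → F, ∃ y₁ y₂ : Fin b → F,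
    ten u' y = ten u y₁ + (g : Matrix (Fin a × Fin b) (Fin a × Fin b) F) *ᵥ ten u₀ y₂)

/-- `S = g L_{u₀}` is generic: `S ∩ L_u^⊥ = 0` for every `u ≠ 0`. -/
def GenA (J1 : Matrix (Fin a) (Fin a) F) (J2 : Matrix (Fin b) (Fin b) F)
    (g : Matrix.GeneralLinearGroup (Fin a × Fin b) F) (u₀ : Fin a → F) : Prop :=
  ∀ u : Fin a → F, u ≠ 0 → ∀ y : Fin b → F,
    (∀ y' : Fin b → F, bf (JV J1 J2)
      ((g : Matrix (Fin a × Fin b) (Fin a × Fin b) F) *ᵥ ten u₀ y) (ten u y') = 0) → y = 0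

end Cfsg.Agent.Lib.Helper21.TS
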